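import Cfsg.Agent.OM.Xc.B.Tool
import Cfsg.Agent.OM.Xc.A.St
import Cfsg.Agent.OM.Xc.C.Thirteen
import Cfsg.Agent.BZ.X.RB1
import Cfsg.Agent.KM.Ex.OneX
import Cfsg.Agent.S2104

/-!
# OM (S4894), exceptional covers: `2.F₄(2)` at the prime seven (helper74)
-/

set_option autoImplicit false

namespace Cfsg.Agent.OM.XB

open Cfsg Cfsg.Lie Subgroup Cfsg.Agent.OM.Lo Cfsg.Agent.BZ.T Cfsg.Agent.BZ.X

variable (F : Type) [Field F] [Fintype F]

open Cfsg.Agent.DL Cfsg.Agent.KM Cfsg.Agent.KM.Xc Cfsg.Agent.KZ.DatX in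
theorem rb7_f42 (hF : Fintype.card F = 2) [Fact (Nat.Prime 7)] : RB 7 2 ↥(chevF4.group F) := by
  have : CharP F 2 := charP_of_card_eq_prime hF
  obtain ⟨k, _, _, _, X, -, ⟨s⟩⟩ := Nt.has_F4 (r := 2) (e := 1) (F := F) hF
  have := X.finite
  have : Finite ↥(chevF4.group F) := Finite.of_injective _ s.ov.hom_inj
  have : Nonempty X.D.R := ⟨(0 : Fin 4)⟩
  refine (R1.rb_allT X.D (by decide) (allT_of_lev X.D (TO.X.Cn.pi1 X TO.X.Cn.pm_F4) (by decide) (Nat.coprime_one_right 7)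
    (Ex.lev_F4 X Fact.out (by decide))) (Cv.tb_of_bound _ _ (Sp.F42.fq_mx X.D X.D_Mx) (fun s hs _ _ => hs.two_le) ?_)
    fun E h2 h3 => absurd (IsPGroup.isMulCommutative_of_card_eq_prime_sq h2) h3).congr s.ov.equiv.symm
  show (2 ^ 1 + 1) ^ Fintype.card (Fin 4) < 7 ^ 2 * 2
  rw [Fintype.card_fin]
  decide

/-- **`2.F₄(2)`, `p = 7`** -/
theorem f42_7 (hF : Fintype.card F = 2) : CovX 2 7 ↥(chevF4.group F) := fun X _ _ σ M Γ b D H hz => by
  have := Fact.mk H.hM.1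
  have hc := Nat.dvd_antisymm (card_cen H (S2104.result hF) (m := 2) (by decide)) hz
  obtain ⟨k, hk⟩ := H.exists_card
  obtain ⟨w, h1, h2, h3⟩ := X13.od_f42 F hF
  exact (XA.no_st H (IsPGroup.of_card (n := 1) hc) (T2.lie_f4 F hF) (by decide) (rb7_f42 F hF)
    (hk ▸ pow_dvd_pow 7 (by omega)) (h1 ▸ by decide) (h1 ▸ by decide) (t := 1) (.inr h3) 0 24 0 2 (S1062.result hF)
    (by rw [one_mul]; exact h2.not_two_dvd_nat) (by decide) (by decide) (by decide) (by decide) (by decide)).elim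

end Cfsg.Agent.OM.XB
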