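import Cfsg.Agent.OM.Xc.B.Tool
import Cfsg.Agent.BZ.X.G23
import Cfsg.Agent.BZ.X.G24
import Cfsg.Agent.BZ.X.O73
import Cfsg.Agent.BZ.X.RB1
import Cfsg.Agent.KM.Ex.OneX
import Cfsg.Agent.H101.Cod.Over
import Cfsg.Agent.S2095
import Cfsg.Agent.S2101
import Cfsg.Agent.S2102
import Cfsg.Agent.S2121
import Cfsg.Agent.S2604

/-!
# OM (S4894), exceptional covers: `3.Ω₇(3)`, `3.G₂(3)`, `2.G₂(4)` (helper74)
-/

set_option autoImplicit false
set_option linter.unusedSectionVars false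

namespace Cfsg.Agent.OM.XB

open Cfsg Cfsg.Lie Subgroup Cfsg.Agent.OM.Lo Cfsg.Agent.BZ.T Cfsg.Agent.BZ.X

/-- the prime two: a congruence modulo eight -/
theorem cov_two {r d a e N : ℕ} {S : Type} [Group S] (ho : Nat.card (Out S) = 2) (h : RB 2 d S) (hd : d ≤ 5)
    (hS : Nat.card S = 2 ^ a * N) (he : e + d ≤ a + 1) (h3 : a + 3 ≤ 2 * e) (hN : N % 8 = 3 ∨ N % 8 = 5) : CovX r 2 S :=
  fun X _ _ σ M Γ b D H _ => by
    have hi := ho ▸ boxIdx 2 M X Γ b D S σ H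
    rcases H.cases with ⟨-, h1⟩ | ⟨h1, -⟩ | ⟨h1, -⟩ | h1
    · exact boxN2 M X Γ b D S σ H hi h1
    · omega
    · omega
    obtain ⟨n, l, c, h4, h5, h6⟩ := col H h ((pow_dvd_pow 2 hd).trans h1) hS (by omega) he
    obtain rfl : l = 1 := ((Nat.dvd_prime Nat.prime_two).1 (h4.trans hi)).resolve_right fun e => h5 e.symm.dvd
    obtain ⟨k, hk⟩ := Nat.exists_eq_add_of_le h3
    rw [hk, one_mul, pow_add, pow_add, mul_comm (n ^ 2), mul_assoc, mul_assoc, ← mul_add,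
      Nat.mul_right_inj (by positivity)] at h6
    have h7 : n ^ 2 % 8 = 0 ∨ n ^ 2 % 8 = 1 ∨ n ^ 2 % 8 = 4 := by
      rw [Nat.pow_mod]
      have := Nat.mod_lt n (by norm_num : 0 < 8)
      generalize n % 8 = k at *
      interval_cases k <;> decide
    omega

variable (F : Type) [Field F] [Fintype F]

/-- **`3.Ω₇(3)`** -/
theorem o73 (hF : Fintype.card F = 3) : CovX 3 2 (POmega F (quadFormOdd 3 F)) := by
  obtain ⟨e⟩ := S2604.result (p := 3) (f := 1) (m := 3) le_rfl hF (by decide) le_rfl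
  obtain ⟨i⟩ := MK.S7.O7.iso_H8 F hF
  exact cov_two (a := 9) (e := 6) (N := 8955765) (by rw [Nat.card_congr e.toEquiv]; simp) (O7.rb_o73 F hF) (by decide)
    ((Nat.card_congr i.toEquiv).trans Fischer.Y322Iso.card_H8) (by decide) (by decide) (by decide)

/-- **`3.G₂(3)`** -/
theorem g23 (hF : Fintype.card F = 3) : CovX 3 2 ↥(chevG2.group F) :=
  have : CharP F 3 := charP_of_card_eq_prime hF
  have : Finite ↥(chevG2.group F) := Nat.finite_of_card_ne_zero (by rw [S1059.result hF]; norm_num)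
  cov_two (a := 6) (e := 6) (N := 66339) (S2121.result 3 1 hF le_rfl) (T2.rb_of_r0 (r0_g23 F hF)) (by decide)
    (S1059.result hF) (by decide) (by decide) (by decide)

section g24

open Cfsg.Agent.H51.Mult Cfsg.Agent.H419.LeechIrr Cfsg.Agent.H509.RIM Cfsg.Agent.H678.PV.CoThreeFive Cfsg.Agent.BZ.X.G24

/-- a small faithful degree of `2.G₂(4)` -/
theorem dg_small (hF : Fintype.card F = 4) {n : ℕ} (hn : ¬ n ∣ 24) : Dg 2 ↥(chevG2.group F) fun m => ¬ n ∣ m ∧ m ≤ 24 := by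
  obtain ⟨e⟩ := StdG24.Iso6.equiv_chev F hF
  obtain ⟨Γ, _, _, σ, z, x, k, f, h1, h2, hfz, -⟩ := GTwo.exists_data_L
  have := Fintype.ofFinite Γ
  obtain ⟨χ, h3, h4, h5⟩ := exists_not_dvd (isCharacter_lchi f) (d := 24) (lchi_one f) hn
  have h6 := H509.QS.GTwo.Dbl.congr h2 (KFacts.Co1D4.GTwo.φ.symm.trans e)
  have h7 := sign_of_inner (h2.cen h2.hz) (lchi_neg f hfz) h3 h2.zz h4 1
  rw [one_mul] at h7
  exact (dg_model (S2102.result hF) (h1.congr _) h2.z1 (fun g => ⟨h6.mem g, fun h => h.elim (fun h => h ▸ map_one _)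
    fun h => h ▸ h6.hz⟩) h3 h7).mono fun m hm => hm ▸ ⟨h5, (H101.Cod.charDegree_le_of_inner (isCharacter_lchi f) ⟨χ, h3⟩ h4).trans
      (Blocks.Basic.charDegree_of_eq (n := 24) (lchi_one f)).le⟩

end g24

open Cfsg.Agent.DL Cfsg.Agent.KM Cfsg.Agent.KM.Xc Cfsg.Agent.KZ.DatX in
theorem rb5_g24 (hF : Fintype.card F = 4) [Fact (Nat.Prime 5)] : RB 5 2 ↥(chevG2.group F) := by
  have : CharP F 2 := charP_of_card_eq_prime_pow (f := 2) hF
  obtain ⟨k, _, _, _, X, -, ⟨s⟩⟩ := Nt.has_G2 (r := 2) (e := 2) (F := F) hF (by omega)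
  have := X.finite
  have : Finite ↥(chevG2.group F) := Finite.of_injective _ s.ov.hom_inj
  have : Nonempty X.D.R := ⟨(0 : Fin 2)⟩
  refine (R1.rb_allT X.D (by decide) (allT_of_lev X.D (TO.X.Cn.pi1 X TO.X.Cn.pm_G2) (by decide) (Nat.coprime_one_right 5)
    (Ex.lev_G2 X Fact.out le_rfl)) (Cv.tb_of_bound _ _ (Sp.F42.fq_mx X.D X.D_Mx) (fun s hs _ _ => hs.two_le) ?_)
    fun E h2 h3 => absurd (IsPGroup.isMulCommutative_of_card_eq_prime_sq h2) h3).congr s.ov.equiv.symm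
  show (2 ^ 2 + 1) ^ Fintype.card (Fin 2) < 5 ^ 2 * 2
  rw [Fintype.card_fin]
  decide

theorem no_g24 (hF : Fintype.card F = 4) {p a : ℕ} [Fact p.Prime] (h : RB p 2 ↥(chevG2.group F)) (h1 : ¬ p ^ (a + 1) ∣ 24)
    (h2 : p ^ (a + 2) ∣ 251596800) (h3 : ∀ k, p ^ k ∣ 251596800 → p ^ k ≤ 27) {X : Type} [Group X] [Finite X]
    {σ : X →* ↥(chevG2.group F)} {M : Ideal AlgInt} {Γ : Subgroup (MulAut X)} {b : Set (IrrCharacter X)} {D : Subgroup X}
    (H : Hyp p M Γ b D σ) (hz : 2 ∣ Nat.card (center X)) : False := by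
  have : CharP F 2 := charP_of_card_eq_prime_pow (f := 2) hF
  have hS : Nat.card ↥(chevG2.group F) = 251596800 := S1059.result hF
  have hc := Nat.dvd_antisymm (card_cen H (S2102.result hF) (m := 2) (by decide)) hz
  obtain ⟨k, hk⟩ := H.exists_card
  have hd : p ^ 2 ∣ Nat.card D := hk ▸ pow_dvd_pow p (by omega)
  obtain ⟨m, ⟨h4, h5⟩, h6⟩ := dg_small F hF h1 X σ H.sit.qs H.surj H.ker hc
  refine no_small H (mem_st H h hd (T2.lie_g2 F (k := 2) hF (by decide)) hc (a := 12) (by rw [hS]; decide +kernel))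
    (mem H h hd h6 a h4 (hS ▸ h2)) (S2121.result 2 2 hF (by decide) ▸ boxIdx p M X Γ b D _ σ H) (by decide)
    (hk ▸ h3 _ (hk ▸ hS ▸ H.dvd_card)) ((Nat.mul_le_mul_right _ (Nat.pow_le_pow_left h5 2)).trans_lt (by decide))

theorem pow_le {p k e N : ℕ} (h : p ^ k ∣ N) (he : ¬ p ^ (e + 1) ∣ N) (hp : 0 < p) : p ^ k ≤ p ^ e :=
  Nat.pow_le_pow_right hp (not_lt.1 fun h1 => he ((pow_dvd_pow p h1).trans h))

/-- **`2.G₂(4)`, `p = 3`** -/
theorem g24_3 (hF : Fintype.card F = 4) : CovX 2 3 ↥(chevG2.group F) := fun _ _ _ _ _ _ _ _ H hz =>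
  (no_g24 F hF (a := 1) (rb_g24 F hF) (by decide) (by decide)
    (fun _ h => pow_le (e := 3) h (by decide) (by decide)) H hz).elim

/-- **`2.G₂(4)`, `p = 5`** -/
theorem g24_5 (hF : Fintype.card F = 4) : CovX 2 5 ↥(chevG2.group F) := fun _ _ _ _ _ _ _ _ H hz =>
  have := Fact.mk H.hM.1
  (no_g24 F hF (a := 0) (rb5_g24 F hF) (by decide) (by decide)
    (fun _ h => (pow_le (e := 2) h (by decide) (by decide)).trans (by decide)) H hz).elim

end Cfsg.Agent.OM.XB
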