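import Cfsg.Agent.OM.Xc.B.Tool
import Cfsg.Agent.OM.Xc.A.St
import Cfsg.Agent.BZ.X.RB1
import Cfsg.Agent.BZ.X.S62
import Cfsg.Agent.OrdCrit.Main
import Cfsg.Agent.H163.PG.Ord
import Cfsg.Agent.H407.TI.L34
import Cfsg.Agent.S2088
import Cfsg.Agent.S2093

/-!
# OM (S4894), exceptional covers: `2.Sp₆(2)`, `2.L₃(4)`, `4.L₃(4)` (helper74)
-/

set_option autoImplicit false

namespace Cfsg.Agent.OM.XB

open Cfsg Subgroup Cfsg.Agent.OM.Lo Cfsg.Agent.BZ.T Cfsg.Agent.BZ.X Cfsg.Agent.Characters.Core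

theorem cen_bot {X S : Type} [Group X] [Group S] {σ : X →* S} (hX : commutator X = ⊤) (hs : Function.Surjective σ)
    (hk : σ.ker = center X) : center S = ⊥ := eq_bot_iff.2 fun s h => by
  obtain ⟨y, rfl⟩ := hs s
  have h1 := Idx.eq_one hX (α := MulAut.conj y) fun x => hk.le (by
    rw [MonoidHom.mem_ker, MulAut.conj_apply, map_mul, map_mul, map_mul, map_inv, map_inv, ← mem_center_iff.1 h]
    group)
  exact hk.ge (mem_center_iff.2 fun g => (mul_inv_eq_iff_eq_mul.1 (DFunLike.congr_fun h1 g)).symm)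

variable (F : Type) [Field F] [Fintype F]

/-- **`2.Sp₆(2)`** -/
theorem s62 (hF : Fintype.card F = 2) : CovX 2 3 (PSp 3 F) := fun X _ _ σ M Γ b D H hz => by
  have hc := Nat.dvd_antisymm (card_cen H (S2093.result hF) (m := 2) (by decide)) hz
  have hS := OrdCrit.card_sp6 hF
  obtain ⟨k, hk⟩ := H.exists_card
  have hd : 3 ^ 2 ∣ Nat.card D := hk ▸ pow_dvd_pow 3 (by omega)
  obtain ⟨_, rfl, h3⟩ := S62.dg48 F hF X σ H.sit.qs H.surj H.ker hc
  have h4 : 3 ^ (k + 2) ∣ 1451520 := hk ▸ hS ▸ H.dvd_card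
  refine (no_small H (mem_st H (R1.rb_s62_two F hF) hd (T2.lie_sp F hF) hc (a := 9) (by rw [hS]; decide +kernel))
    (mem H (R1.rb_s62_two F hF) hd h3 1 (by decide) (hS ▸ by decide)) (t := 1) (N := 3 ^ 4)
    (H163.PG.card_out_psp (p := 2) (f := 1) Nat.prime_two le_rfl hF (by decide) (by omega)
      (cen_bot H.sit.qs.1.commutator_eq_top H.surj H.ker) ▸ boxIdx 3 M X Γ b D _ σ H :) one_pos
    (hk.trans_le (Nat.pow_le_pow_right (by decide) (not_lt.1 fun h1 => ?_))) (by decide)).elim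
  exact absurd ((pow_dvd_pow 3 h1).trans h4) (by decide)

open Cfsg.Agent.ONType.Psl Cfsg.Agent.H407 in
theorem rb_l34 : RB 3 1 PSL3 := fun D _ h1 r h2 h3 => by
  have := CpAut.SmallP.PslFour.finite_PSL3
  obtain ⟨x, hx⟩ := exists_prime_orderOf_dvd_card' 3 (G := D) h1
  have h4 := orderOf_dvd_natCard (⟨r, mem_centralizer_singleton_iff.2 (h2 x x.2).symm⟩ : centralizer ({x.1} : Set PSL3))
  rw [TI.card_cent_three ((orderOf_coe x).trans hx), ← orderOf_coe] at h4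
  exact orderOf_eq_one_iff.1 (Nat.eq_one_of_dvd_coprimes
    (((Nat.Prime.coprime_iff_not_dvd Nat.prime_three).2 h3).pow_left 2) h4 dvd_rfl)

open Cfsg.Agent.ONType.Psl Cfsg.Agent.H407 in
/-- **the covers of `L₃(4)`** -/
theorem l34 (hF : Fintype.card F = 4) : CovX 2 3 (Matrix.ProjectiveSpecialLinearGroup (Fin 3) F) :=
  fun X _ _ σ M Γ b D H' _ => by
    obtain ⟨e⟩ := SporadicA.FieldFour.nonempty_psl_equiv (n := Fin 3) F hF
    have H := H'.congr e.symm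
    have h1 := card_cen H' (S2088.result hF) (m := 2 ^ 2 * 3) (by decide)
    have h2 := ((Nat.Prime.coprime_iff_not_dvd Nat.prime_three).2 H.sit.ndvd).symm.dvd_of_dvd_mul_right h1
    obtain ⟨j, -, hj⟩ := (Nat.dvd_prime_pow Nat.prime_two).1 h2
    have hy : TI.Hyp X (center X) := ⟨H.sit.qs.1.commutator_eq_top, le_rfl, IsPGroup.of_card hj, _, H.surj, H.ker⟩
    obtain ⟨k, hk⟩ := H.exists_card
    have hr := rt H rb_l34 (hk ▸ pow_dvd_pow 3 (by omega))
    obtain ⟨ψ, hψ, -⟩ := (C2.ce H).max_of_rt H.hM H.hb H.hD hr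
    obtain ⟨ν, hν⟩ := XA.exists_nu (σ := QuotientGroup.mk' (center X)) (QuotientGroup.ker_mk' _).le ψ
    have := finite_irr (G := X)
    have := Fintype.ofFinite (IrrCharacter X)
    let lam : center X →* ℂˣ := ν.comp (inclusion (QuotientGroup.ker_mk' _).ge)
    have h3 : ∀ n ∈ TI.degs lam, ¬ 3 ∣ n → C2.Dg b n := fun n hn h3 => by
      obtain ⟨χ, h4, rfl⟩ := Multiset.mem_map.1 hn
      refine ⟨χ, XA.mem_of H hr hψ (fun z hz => ?_) (top_of_not_dvd H.hM h3), rfl⟩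
      have h5 := TI.mem_mem.1 h4 ⟨z, H.ker.le hz⟩ 1
      rw [mul_one] at h5
      rw [h5, mul_div_cancel_right₀ _ (isIrr_apply_one_ne_zero χ.2), eq_div_iff (isIrr_apply_one_ne_zero ψ.2)]
      exact (hν ⟨z, _⟩).symm
    obtain ⟨n, h4, h5, h6⟩ : ∃ n ∈ TI.degs lam, 64 ∈ TI.degs lam ∧ ¬ 3 ∣ n ∧ 7 ^ 1 ∣ n := by
      have h4 := TI.degs_mem hy lam
      simp only [TI.tabs, Finset.mem_insert, Finset.mem_singleton] at h4
      rcases h4 with h | h | h | h <;> rw [h]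
      exacts [⟨35, by decide⟩, ⟨28, by decide⟩, ⟨56, by decide⟩, ⟨28, by decide⟩]
    exact (C2.fin H (h3 n h4 h6.1) (h3 64 h5 (by decide)) ONType.PslCard.card_PSL3 rfl 7 1 (by norm_num)
      ⟨by decide, by decide, h6.2, fun h => absurd (h.trans (Nat.mul_dvd_mul_left _ h2)) (by decide), by decide⟩).elim

end Cfsg.Agent.OM.XB
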