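import Cfsg.Agent.OM.Xc.B.Tool
import Cfsg.Agent.BZ.X.O82
import Cfsg.Agent.BZ.X.RB1
import Cfsg.Agent.OrdCrit.Main
import Cfsg.Agent.S2098
import Cfsg.Agent.S2607

/-!
# OM (S4894), exceptional covers: `2.Ω₈⁺(2)` (helper74)

* `cp5` : the centraliser of a Sylow `5`-subgroup; `idx_o8` : the automorphisms of the double cover.
-/

set_option autoImplicit false
set_option linter.unusedSectionVars false
set_option maxRecDepth 100000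

namespace Cfsg.Agent.OM.XB

open Cfsg Subgroup Matrix Cfsg.Agent.OM.Lo Cfsg.Agent.BZ.T Cfsg.Agent.BZ.X Cfsg.Agent.BHZ.Spor
open Cfsg.Agent.OddHalf.D9.EEight Cfsg.Agent.OddHalf.D9.EEight.Id Cfsg.Agent.OddHalf.D9.EEight.Id.ModTwo
  Cfsg.Agent.OddHalf.D9.EEight.Id.Onto Cfsg.Agent.OddHalf.D9.EEight.Id.Homs Cfsg.Agent.OddHalf.D9.EEight.Id.Main
open Cfsg.Agent.ClassicalGeometry.OrthAut1 (P)

namespace O8

/-- two commuting elements of order five -/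
def MA : Bool → Matrix (Fin 8) (Fin 8) ℤ
  | true => !![0, -1, 0, 0, 1, 0, 0, 0; 0, -1, 0, 1, 0, 0, 0, 0; 1, -1, 0, 0, 1, 0, 0, 0; 0, -1, 1, 0, 1, 0, 0, 0; 0, 0, 0, 0, 1, 0, 0, 0; 0, 0, 0, 0, 0, 1, 0, 0; 0, 0, 0, 0, 0, 0, 1, 0; 0, 0, 0, 0, 0, 0, 0, 1]
  | false => !![1, 0, 0, 0, 0, 0, 0, -2; 0, 1, 0, 0, 0, 0, 0, -3; 0, 0, 1, 0, 0, 0, 0, -4; 0, 0, 0, 1, 0, 0, 0, -6; 0, 0, 0, 0, 1, 0, 0, -5; 0, 0, 0, 0, 1, 0, 0, -4; 0, 0, 0, 0, 0, 1, 0, -3; 0, 0, 0, 0, 0, 0, 1, -2]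

/-- their inverses -/
def NA : Bool → Matrix (Fin 8) (Fin 8) ℤ
  | true => !![-1, 0, 1, 0, 0, 0, 0, 0; -1, 0, 0, 0, 1, 0, 0, 0; -1, 0, 0, 1, 0, 0, 0, 0; -1, 1, 0, 0, 1, 0, 0, 0; 0, 0, 0, 0, 1, 0, 0, 0; 0, 0, 0, 0, 0, 1, 0, 0; 0, 0, 0, 0, 0, 0, 1, 0; 0, 0, 0, 0, 0, 0, 0, 1]
  | false => !![1, 0, 0, 0, -2, 2, 0, 0; 0, 1, 0, 0, -3, 3, 0, 0; 0, 0, 1, 0, -4, 4, 0, 0; 0, 0, 0, 1, -6, 6, 0, 0; 0, 0, 0, 0, -4, 5, 0, 0; 0, 0, 0, 0, -3, 3, 1, 0; 0, 0, 0, 0, -2, 2, 0, 1; 0, 0, 0, 0, -1, 1, 0, 0]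

/-- their squares -/
def SA : Bool → Matrix (Fin 8) (Fin 8) ℤ
  | true => !![0, 1, 0, -1, 1, 0, 0, 0; 0, 0, 1, -1, 1, 0, 0, 0; 0, 0, 0, -1, 2, 0, 0, 0; 1, 0, 0, -1, 2, 0, 0, 0; 0, 0, 0, 0, 1, 0, 0, 0; 0, 0, 0, 0, 0, 1, 0, 0; 0, 0, 0, 0, 0, 0, 1, 0; 0, 0, 0, 0, 0, 0, 0, 1]
  | false => !![1, 0, 0, 0, 0, 0, -2, 2; 0, 1, 0, 0, 0, 0, -3, 3; 0, 0, 1, 0, 0, 0, -4, 4; 0, 0, 0, 1, 0, 0, -6, 6; 0, 0, 0, 0, 1, 0, -5, 5; 0, 0, 0, 0, 1, 0, -4, 3; 0, 0, 0, 0, 1, 0, -3, 2; 0, 0, 0, 0, 0, 1, -2, 1]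

/-- modulo two -/
def M2 : Bool → Matrix (Fin 8) (Fin 8) (ZMod 2)
  | true => !![0, 1, 0, 0, 1, 0, 0, 0; 0, 1, 0, 1, 0, 0, 0, 0; 1, 1, 0, 0, 1, 0, 0, 0; 0, 1, 1, 0, 1, 0, 0, 0; 0, 0, 0, 0, 1, 0, 0, 0; 0, 0, 0, 0, 0, 1, 0, 0; 0, 0, 0, 0, 0, 0, 1, 0; 0, 0, 0, 0, 0, 0, 0, 1]
  | false => !![1, 0, 0, 0, 0, 0, 0, 0; 0, 1, 0, 0, 0, 0, 0, 1; 0, 0, 1, 0, 0, 0, 0, 0; 0, 0, 0, 1, 0, 0, 0, 0; 0, 0, 0, 0, 1, 0, 0, 1; 0, 0, 0, 0, 1, 0, 0, 0; 0, 0, 0, 0, 0, 1, 0, 1; 0, 0, 0, 0, 0, 0, 1, 0]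

/-- two singular vectors -/
def vv : Bool → V8
  | true => ![0, 1, 1, 0, 0, 0, 0, 0]
  | false => ![0, 0, 0, 0, 0, 1, 0, 1]

/-- the orbits -/
def ob : Bool → Fin 5 → V8
  | true => ![![0, 1, 1, 0, 0, 0, 0, 0], ![1, 1, 1, 0, 0, 0, 0, 0], ![1, 1, 0, 0, 0, 0, 0, 0], ![1, 1, 0, 1, 0, 0, 0, 0], ![1, 0, 0, 1, 0, 0, 0, 0]]
  | false => ![![0, 0, 0, 0, 0, 1, 0, 1], ![0, 1, 0, 0, 1, 0, 0, 0], ![0, 1, 0, 0, 1, 1, 0, 0], ![0, 1, 0, 0, 1, 1, 1, 0], ![0, 1, 0, 0, 1, 1, 1, 1]]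

/-- a basis -/
def Wm : Matrix (Fin 8) (Fin 8) (ZMod 2) :=
  !![0, 1, 1, 1, 0, 0, 0, 0; 1, 1, 1, 1, 0, 1, 1, 1; 1, 1, 0, 0, 0, 0, 0, 0; 0, 0, 0, 1, 0, 0, 0, 0; 0, 0, 0, 0, 0, 1, 1, 1; 0, 0, 0, 0, 1, 0, 1, 1; 0, 0, 0, 0, 0, 0, 0, 1; 0, 0, 0, 0, 1, 0, 0, 0]

/-- its inverse -/
def Wi : Matrix (Fin 8) (Fin 8) (ZMod 2) :=
  !![1, 1, 0, 0, 1, 0, 0, 0; 1, 1, 1, 0, 1, 0, 0, 0; 0, 1, 1, 1, 1, 0, 0, 0; 0, 0, 0, 1, 0, 0, 0, 0; 0, 0, 0, 0, 0, 0, 0, 1; 0, 0, 0, 0, 1, 1, 0, 1; 0, 0, 0, 0, 0, 1, 1, 1; 0, 0, 0, 0, 0, 0, 1, 0]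

theorem ok : ∀ i, MA i * NA i = 1 ∧ NA i * MA i = 1 ∧ (MA i)ᵀ * GM * MA i = GM := by decide +kernel

theorem ok2 : (∀ i, MA i * MA i = SA i ∧ SA i * SA i = NA i ∧ (MA i).map (Int.castRingHom (ZMod 2)) = M2 i) ∧
    MA true * MA false = MA false * MA true := by decide +kernel

theorem ok3 : ∀ i, (∀ k, M2 i *ᵥ ob i k = ob i (k + 1) ∧ M2 (!i) *ᵥ ob i k = ob i k ∧ qb (ob i k) = 0 ∧ ob i k ≠ 0) ∧
    ∀ u : V8, qb u = 0 → M2 (!i) *ᵥ u = u → u = 0 ∨ ∃ k, u = ob i k := by decide +kernel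

theorem ok4 : Wm * Wi = 1 ∧ ∀ c, ∃ i k, (fun j => Wm j c) = ob i k := by decide +kernel

theorem five (G : (Matrix (Fin 8) (Fin 8) (ZMod 2))ˣ) (h1 : ∀ i, G.1 * M2 i = M2 i * G.1) (h2 : ∀ v, qb (G.1 *ᵥ v) = qb v) :
    G ^ 5 = 1 := by
  have h3 : ∀ i, ∃ j, ∀ k, G.1 *ᵥ ob i k = ob i (k + j) := fun i => by
    obtain ⟨h3, h4⟩ := ok3 i
    obtain h5 | ⟨j, h5⟩ := h4 (G.1 *ᵥ ob i 0) ((h2 _).trans (h3 0).2.2.1) (by
      rw [mulVec_mulVec, ← h1, ← mulVec_mulVec, (h3 0).2.1])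
    · have h6 := congrArg (G⁻¹.1 *ᵥ ·) h5
      simp only [mulVec_mulVec, Units.inv_mul, one_mulVec, mulVec_zero] at h6
      exact absurd h6 (h3 0).2.2.2
    · have h6 : ∀ k, G.1 *ᵥ ob i k = ob i (k + j) → G.1 *ᵥ ob i (k + 1) = ob i (k + 1 + j) := fun k e => by
        rw [← (h3 k).1, mulVec_mulVec, h1, ← mulVec_mulVec, e, (h3 _).1, add_right_comm]
      have h7 := h5.trans (congrArg _ (zero_add j).symm)
      refine ⟨j, fun k => ?_⟩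
      fin_cases k
      exacts [h7, h6 _ h7, h6 _ (h6 _ h7), h6 _ (h6 _ (h6 _ h7)), h6 _ (h6 _ (h6 _ (h6 _ h7)))]
  have h4 : (G ^ 5).1 * Wm = Wm := Matrix.ext fun r c => by
    obtain ⟨i, k, e⟩ := ok4.2 c
    obtain ⟨j, h4⟩ := h3 i
    change ((G ^ 5).1 *ᵥ fun j => Wm j c) r = (fun j => Wm j c) r
    have h5 : ∀ k j : Fin 5, k + j + j + j + j + j = k := by decide
    rw [e]
    simp only [pow_succ, pow_zero, one_mul, Units.val_mul, ← mulVec_mulVec, h4, h5]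
  exact Units.ext (by rw [← mul_one (G ^ 5).1, ← ok4.1, ← mul_assoc, h4, ok4.1, Units.val_one])

theorem w_pow (i : Bool) : mkW _ _ (ok i) ^ 5 = 1 := Subtype.ext (Units.ext (by
  change MA i ^ 5 = 1
  rw [show MA i ^ 5 = MA i * (MA i * MA i * (MA i * MA i)) by simp only [pow_succ, pow_zero, one_mul, mul_assoc],
    (ok2.1 i).1, (ok2.1 i).2.1, (ok i).1]))

/-- the elements -/
def aa (i : Bool) : K₀ := ⟨mkW _ _ (ok i), by
  have h1 : OddHalf.D9.EEight.det (mkW _ _ (ok i)) ^ 5 = 1 := by rw [← map_pow, w_pow, map_one]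
  rcases Int.units_eq_one_or (OddHalf.D9.EEight.det (mkW _ _ (ok i))) with h | h
  · exact h
  · rw [h] at h1
    exact absurd h1 (by decide)⟩

theorem rho_one {w : K₀} : pi1 w = 1 ↔ rho0 w = 1 := by
  rw [pi1_eq_one]
  refine ⟨?_, fun h => (eq_of_rho2 (w := w) (by rw [rho2, MonoidHom.comp_apply, MonoidHom.comp_apply, h, map_one, map_one])).imp
    Subtype.ext Subtype.ext⟩
  rintro (rfl | rfl)
  · exact map_one _
  · refine Units.ext ?_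
    change (-1 : Matrix (Fin 8) (Fin 8) ℤ).map (Int.castRingHom (ZMod 2)) = 1
    decide +kernel

theorem cp5 [Fact (Nat.Prime 5)] : CP 5 (P Q) := by
  have h1 : ∀ i, pi1 (aa i) ^ 5 = 1 := fun i => by rw [← map_pow, show aa i ^ 5 = 1 from Subtype.ext (w_pow i), map_one]
  have h2 : ∀ i, IsPGroup 5 (zpowers (pi1 (aa i))) := fun i => isPGroup_zpowers (k := 1) (h1 i)
  have h3 : Commute (pi1 (aa true)) (pi1 (aa false)) :=
    Commute.map (Subtype.ext (Subtype.ext (Units.ext ok2.2)) : Commute (aa true) (aa false)) pi1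
  refine ⟨_, isPGroup_sup (h2 true) (h2 false) ?_, fun r h4 h5 => ?_⟩
  · rintro _ ⟨m, rfl⟩ _ ⟨n, rfl⟩
    exact ⟨n, (mul_inv_eq_iff_eq_mul.2 (h3.zpow_zpow m n).eq).symm⟩
  · obtain ⟨g, rfl⟩ := pi1_surj r
    refine eq_one_of_reg (k := 1) h5 ?_
    rw [pow_one, ← map_pow, rho_one, Subgroup.coe_pow, map_pow]
    refine five _ (fun i => ?_) fun v => ?_
    · have h6 : Commute (pi1 (aa i)) (pi1 g) := h4 _ (by
        cases i
        exacts [mem_sup_right (mem_zpowers _), mem_sup_left (mem_zpowers _)])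
      have h7 := rho_one.1 (show pi1 (g * aa i * (aa i * g)⁻¹) = 1 by rw [map_mul, map_inv, map_mul, map_mul, h6, mul_inv_cancel])
      rw [Subgroup.coe_mul, Subgroup.coe_inv, map_mul, map_inv, mul_inv_eq_one, Subgroup.coe_mul, Subgroup.coe_mul, map_mul,
        map_mul] at h7
      rw [← (ok2.1 i).2.2]
      exact congrArg Units.val h7
    · rw [← mo_lift v]
      exact (congrArg qb (mo_ap g _)).trans (by rw [qb_mo, q_ap, qb_mo])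

/-- the automorphisms of the double cover -/
theorem idx {X : Type} [Group X] [Finite X] {σ : X →* P Q} (hX : commutator X = ⊤) (hs : Function.Surjective σ)
    (hk : σ.ker = center X) (hc : Nat.card (center X) = 2) : (Inn X).index * 3 ≤ Nat.card (Out (P Q)) := by
  obtain ⟨U, _, _, S, rfl⟩ := exists_dat (π := σ) ⟨hs, hk.le, IsPGroup.of_card (n := 1) (by rw [hk, hc, pow_one]), hX⟩
  obtain ⟨e⟩ := S.iso card_K (fun h => by rw [← hk, h, card_bot] at hc; omega) (isCyclic_of_prime_card (p := 2) (hk ▸ hc))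
  have h1 : S.π (e.symm S.n) = 1 := hk.ge (mem_center_iff.2 fun g => e.injective (by
    rw [map_mul, map_mul, e.apply_symm_apply, S.ncomm]))
  have h2 : ∀ k : K₀, k = 1 ∨ k = S.n → S.π (e.symm k) = 1 := by
    rintro _ (rfl | rfl)
    exacts [by rw [map_one, map_one], h1]
  have h3 : ∀ (q : U →* K₀) (u : U), u ∈ (e.symm.toMonoidHom.comp q).ker ↔ q u = 1 := fun q u =>
    map_eq_one_iff e.symm e.symm.injective
  refine idx_three hX hs hk S.perfect S.θ_surj (fun i => e.symm.toMonoidHom.comp (![S.q1, S.q2, S.q3] i))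
    (fun i => e.symm.surjective.comp ?_) (fun i u hu => h2 _ ?_) fun i j h => ?_
  · fin_cases i
    exacts [S.surj_of_val S.n2_mem (S.c1 ▸ S.hn) card_K, S.surj_of_val S.n2_mem (S.c2 ▸ S.hn) card_K,
      S.surj_of_val S.n1_mem (S.a3 ▸ S.hn) card_K]
  · fin_cases i
    exacts [(S.q_or hu).1, (S.q_or hu).2.1, (S.q_or hu).2.2]
  · have h4 := SetLike.ext_iff.1 h S.n1
    have h5 := SetLike.ext_iff.1 h S.n2
    rw [h3, h3] at h4 h5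
    fin_cases i <;> fin_cases j <;> simp_all [S.a1, S.a2, S.a3, S.c1, S.c2, S.c3, S.hn]

variable (F : Type) [Field F] [Fintype F] (hF : Fintype.card F = 2)
include hF

theorem eqv : Nonempty (POmega F (quadFormPlus 4 F) ≃* P Q) := by
  obtain ⟨e1⟩ := UGT.U2.Rec.Congr.nonempty_POmega _
    (H42.DM.plus_map (FiniteField.ringEquivOfCardEq (hF.trans (ZMod.card 2).symm)) 4)
  obtain ⟨e2⟩ := H63.EightTwo.exists_equiv
  exact ⟨e1.trans e2⟩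

theorem no {p d a : ℕ} [Fact p.Prime] (h : RB p d (POmega F (quadFormPlus 4 F))) (h1 : ¬ p ^ (a + 1) ∣ 672)
    (h2 : p ^ (a + d) ∣ 174182400) (h7 : p ≠ 7) {X : Type} [Group X] [Finite X] {σ : X →* POmega F (quadFormPlus 4 F)}
    {M : Ideal AlgInt} {Γ : Subgroup (MulAut X)} {b : Set (IrrCharacter X)} {D : Subgroup X} (H : Hyp p M Γ b D σ)
    (hc : Nat.card (center X) = 2) (hd : p ^ d ∣ Nat.card D) : False := by
  have hS := OrdCrit.card_o8 hF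
  obtain ⟨_, rfl, h3⟩ := O82.dg_672 F hF X σ H.sit.qs H.surj H.ker hc
  exact C2.fin H (mem H h hd h3 a h1 (hS ▸ h2)) (mem_st H h hd (T2.lie_op F hF) hc (a := 12) (by rw [hS]; decide +kernel))
    hS hc 7 1 (by norm_num) ⟨h7, by decide, by decide, by decide, by decide⟩

end O8

variable (F : Type) [Field F] [Fintype F]

/-- **`2.Ω₈⁺(2)`, `p = 3`** -/
theorem o82_3 (hF : Fintype.card F = 2) : CovX 2 3 (POmega F (quadFormPlus 4 F)) := fun X _ _ σ M Γ b D H hz => by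
  have hc := Nat.dvd_antisymm (card_cen H (S2098.result hF) (m := 2) (by decide)) hz
  rcases H.cases with ⟨h1, -⟩ | ⟨-, h1⟩ | ⟨h1, -⟩ | h1
  · omega
  · obtain ⟨e⟩ := O8.eqv F hF
    obtain ⟨i⟩ : Nonempty (Out (P Q) ≃* Equiv.Perm (Fin 3) × Multiplicative (ZMod 1)) :=
      (S2607.result (f := 1) (m := 4) le_rfl hF le_rfl).map fun i => (QuotientGroup.congr _ _ (MulAut.congr e) (by
        ext α
        refine ⟨?_, ?_⟩
        · rintro ⟨_, ⟨x, rfl⟩, rfl⟩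
          exact ⟨e x, by ext; simp⟩
        · rintro ⟨x, rfl⟩
          exact ⟨_, ⟨e.symm x, rfl⟩, by ext; simp⟩)).symm.trans i
    have h2 := O8.idx H.sit.qs.1.commutator_eq_top (H.congr e).surj (H.congr e).ker hc
    have h3 := Idx.index_dvd H.sit.qs.1.commutator_eq_top (H.congr e).surj (H.congr e).ker
    rw [show Nat.card (Out (P Q)) = 6 by rw [Nat.card_congr i.toEquiv]; simp [Fintype.card_perm]; rfl] at h2 h3
    refine boxN3 M X Γ b D _ σ H ((relIndex_dvd_index_of_normal _ _).trans ?_) h1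
    have h4 := Nat.pos_of_dvd_of_pos h3 (by decide)
    obtain h5 | h5 : (Inn X).index = 1 ∨ (Inn X).index = 2 := by omega
    all_goals
      rw [h5]
      decide
  · omega
  · exact (O8.no F hF (a := 1) (rb_o82 F hF) (by decide) (by decide) (by decide) H hc h1).elim

/-- **`2.Ω₈⁺(2)`, `p = 5`** -/
theorem o82_5 (hF : Fintype.card F = 2) : CovX 2 5 (POmega F (quadFormPlus 4 F)) := fun X _ _ σ M Γ b D H hz => by
  have := Fact.mk H.hM.1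
  have := Finite.of_surjective σ H.surj
  obtain ⟨e⟩ := O8.eqv F hF
  obtain ⟨k, hk⟩ := H.exists_card
  exact (O8.no F hF (a := 0) ((rb_of_cp (d := 2) O8.cp5 (by rw [card_P]; decide)).congr e.symm) (by decide) (by decide)
    (by decide) H (Nat.dvd_antisymm (card_cen H (S2098.result hF) (m := 2) (by decide)) hz)
    (hk ▸ pow_dvd_pow 5 (by omega))).elim

end Cfsg.Agent.OM.XB
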