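import Cfsg.Agent.OM.Xc.B.U43
import Cfsg.Agent.BZ.X.U62
import Cfsg.Agent.BZ.X.RB2
import Cfsg.Agent.OrdCrit.Main
import Cfsg.Agent.S2091

/-!
# OM (S4894), exceptional covers: `2.U₆(2)` (helper74)
-/

set_option autoImplicit false

namespace Cfsg.Agent.OM.XB

open Cfsg Subgroup Cfsg.Agent.OM.Lo Cfsg.Agent.BZ.T Cfsg.Agent.BZ.X Cfsg.Agent.H51.Mult

/-- `m` quotients of a cover which are isomorphic to `X` -/
theorem idx_iso {X S U A : Type} [Group X] [Finite X] [Group S] [Group U] [Finite U] [Group A] {σ : X →* S}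
    (hX : commutator X = ⊤) (hs : Function.Surjective σ) (hk : σ.ker = center X) {q : U →* S} (hq : PCE q)
    (e : q.ker ≃* A) {m : ℕ} (N : Fin m → Subgroup A) (hN : Function.Injective N)
    (h : ∀ i (L : Type) [Group L] [Finite L] (ρ : L →* S), PCE ρ → Nat.card A = Nat.card ρ.ker * Nat.card (N i) →
      Nonempty (L ≃* X)) : (Inn X).index * m ≤ Nat.card (Out S) := by
  have := Finite.of_surjective σ hs
  have h1 : ∀ i, ∃ f : U →* X, Function.Surjective f ∧ q.ker ≤ (σ.comp f).ker ∧
      f.ker = ((N i).comap e.toMonoidHom).map q.ker.subtype := fun i => by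
    obtain ⟨L, _, g, ρ, a1, a2, a3, a4⟩ := hq.quot (map_subtype_le ((N i).comap e.toMonoidHom))
    have := Finite.of_surjective g a1
    obtain ⟨φ⟩ := h i L ρ a4 (by
      rw [← Nat.card_congr e.toEquiv, card_ker_of_quot a1 a3, a2, card_map_of_injective (subtype_injective _),
        ← card_map_of_injective (f := e.toMonoidHom) e.injective, map_comap_eq_self_of_surjective e.surjective])
    refine ⟨φ.toMonoidHom.comp g, φ.surjective.comp a1, fun u hu => hk.ge (mem_center_iff.2 fun x => ?_), ?_⟩
    · obtain ⟨y, rfl⟩ := φ.surjective x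
      exact (map_mul φ _ _).symm.trans ((congrArg φ (a4.comm ((a3 u).trans hu) y).symm).trans (map_mul φ _ _))
    · rw [← a2]
      exact Subgroup.ext fun u => map_eq_one_iff φ φ.injective
  choose f h2 h3 h4 using h1
  refine idx_three hX hs hk hq.perf hq.surj f h2 h3 fun i j h5 => hN ?_
  rw [h4, h4] at h5
  exact comap_injective e.surjective (map_injective (subtype_injective _) h5)

/-- **`2.U₆(2)`** -/
theorem u62 (F : Type) [Field F] [Fintype F] (hF : Fintype.card F = 4) : CovX 2 3 (PSU 6 F 2) :=
  fun X _ _ σ M Γ b D H hz => by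
    have hc : Nat.card (center X) = 2 := by
      have h1 := card_cen H (S2091.result hF) (m := 6) (by decide)
      have h2 := H.sit.ndvd
      have h3 := Nat.le_of_dvd (by decide) h1
      generalize Nat.card (center X) = n at *
      interval_cases n <;> omega
    have hS := OrdCrit.card_u6 hF
    rcases H.cases with ⟨h1, -⟩ | ⟨-, h1⟩ | ⟨h1, -⟩ | h1
    · omega
    · obtain ⟨U, _, _, q, hq, ⟨e⟩⟩ := H277.DM.exists_univ (F := F) hF
      have hX := H.sit.qs.1.commutator_eq_top
      let v : Fin 3 → H277.DM.M12 := fun i => Multiplicative.ofAdd (1, ![(1, 0), (0, 1), (1, 1)] i)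
      have ho : ∀ i, orderOf (v i) = 6 := fun i => (orderOf_eq_iff (by decide)).2
        ((by decide : ∀ i, v i ^ 6 = 1 ∧ ∀ m < 6, 0 < m → v i ^ m ≠ 1) i)
      have h2 := idx_iso hX H.surj H.ker hq e (fun i => zpowers (v i)) (fun i j h => ?_) fun i L _ _ ρ h3 h4 =>
        H277.DM.iso_of_card (F := F) hF h3 ⟨H.surj, H.ker.le, hX⟩ ?_
      · have h3 := Idx.index_dvd hX H.surj H.ker
        rw [show Nat.card (Out (PSU 6 F 2)) = 6 from out_u (q := 2) hF (by decide)] at h2 h3
        refine boxN3 M X Γ b D _ σ H ((relIndex_dvd_index_of_normal _ _).trans ?_) h1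
        have h4 := Nat.pos_of_dvd_of_pos h3 (by decide)
        obtain h5 | h5 : (Inn X).index = 1 ∨ (Inn X).index = 2 := by omega
        all_goals
          rw [h5]
          decide
      · have h5 : v i ∈ zpowers (v j) := h.le (mem_zpowers (v i))
        rw [mem_zpowers_iff_mem_range_orderOf, ho] at h5
        clear h
        revert i j
        decide
      · rw [Nat.card_zpowers, ho, Nat.card_eq_fintype_card, show Fintype.card H277.DM.M12 = 12 from rfl] at h4
        rw [H.ker, hc]
        omega
    · omega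
    · obtain ⟨_, rfl, h3⟩ := dg_u62_792 F hF X σ H.sit.qs H.surj H.ker hc
      exact (C2.fin H (mem H (rb_u62 F hF) h1 h3 2 (by decide) (hS ▸ by decide))
        (mem_st H (rb_u62 F hF) h1 (T2.lie_u F (by decide) hF) hc (a := 15) (by rw [hS]; decide +kernel))
        hS hc 11 1 (by norm_num) ⟨by decide, by decide, by decide, by decide, by decide⟩).elim

end Cfsg.Agent.OM.XB
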