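import Cfsg.Agent.PLocal.CountSubgroups
import Cfsg.Agent.H966.Der.Eng

/-!
# OM (S4894), exceptional covers: the normaliser of a subgroup `7²` (helper74)
-/

set_option autoImplicit false
set_option linter.unusedSectionVars false

namespace Cfsg.Agent.OM.XB.E7

open Subgroup

/-- a group of nine automorphisms is diagonal -/
theorem diag {Q : Type} [Group Q] (hQ : Nat.card Q = 7 ^ 2) (hn : ¬ IsCyclic Q) {A : Subgroup (MulAut Q)}
    (hA : Nat.card A = 3 ^ 2) : ∃ (u v : Q) (α β : A), u ≠ 1 ∧ v ≠ 1 ∧ α ^ 3 = 1 ∧ β ^ 3 = 1 ∧ α.1 u = u ∧ α.1 v = v ^ 2 ∧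
      β.1 u = u ^ 2 ∧ β.1 v = v := by
  classical
  have h7 : Fact (Nat.Prime 7) := ⟨by norm_num⟩
  have : Finite Q := Nat.finite_of_card_ne_zero (by rw [hQ]; norm_num)
  have : Finite A := Nat.finite_of_card_ne_zero (by rw [hA]; norm_num)
  let _ : MulAction A {U : Subgroup Q // Nat.card U = 7} :=
    { smul := fun a U => ⟨U.1.map a.1.toMonoidHom, (card_map_of_injective a.1.injective).trans U.2⟩
      one_smul := fun U => Subtype.ext (Subgroup.map_id _)
      mul_smul := fun a b U => Subtype.ext (Subgroup.map_map U.1 a.1.toMonoidHom b.1.toMonoidHom).symm }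
  have h1 := (IsPGroup.of_card hA).card_modEq_card_fixedPoints {U : Subgroup Q // Nat.card U = 7}
  rw [PLocal.CountSubgroups.card_subgroups_card_eq_prime hQ hn] at h1
  obtain ⟨⟨U, hU⟩, ⟨V, hV⟩, h2⟩ := (Finite.one_lt_card_iff_nontrivial.1 (show 1 < Nat.card
    (MulAction.fixedPoints A {U : Subgroup Q // Nat.card U = 7}) by unfold Nat.ModEq at h1; omega)).exists_pair_ne
  have key : ∀ U ∈ MulAction.fixedPoints A {U : Subgroup Q // Nat.card U = 7}, ∃ u : Q, orderOf u = 7 ∧ zpowers u = U.1 ∧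
      ∀ a : A, ∃ i : Fin 3, a.1 u = u ^ 2 ^ i.1 := fun U hU => by
    obtain ⟨u, hu⟩ := exists_prime_orderOf_dvd_card' (G := U.1) 7 U.2.symm.dvd
    have h3 := (orderOf_coe u).trans hu
    have h4 : zpowers (u : Q) = U.1 := eq_of_le_of_card_ge (zpowers_le.2 u.2) (by rw [Nat.card_zpowers, h3, U.2])
    refine ⟨u, h3, h4, fun a => ?_⟩
    have h5 : a.1 u ∈ zpowers (u : Q) := h4.ge ((congrArg Subtype.val (hU a)).le ⟨u, u.2, rfl⟩)
    obtain ⟨i, h6, h8⟩ := Finset.mem_image.1 ((mem_zpowers_iff_mem_range_orderOf).1 h5)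
    have h9 : ∀ n : ℕ, (a ^ n).1 u = u ^ i ^ n := fun n => by
      induction n with
      | zero => simp
      | succ n ih => rw [pow_succ, Subgroup.coe_mul, MulAut.mul_apply, ← h8, map_pow, ih, ← pow_mul, ← pow_succ]
    have h10 := h9 (3 ^ 2)
    rw [← hA, pow_card_eq_one', hA] at h10
    have h11 : 1 ≡ i ^ 3 ^ 2 [MOD 7] := h3 ▸ pow_eq_pow_iff_modEq.1 ((pow_one _).trans h10)
    rw [h3, Finset.mem_range] at h6
    obtain ⟨j, hj⟩ := (by decide : ∀ i < 7, 1 ≡ i ^ 3 ^ 2 [MOD 7] → ∃ j : Fin 3, i = 2 ^ j.1) i h6 h11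
    exact ⟨j, hj ▸ h8.symm⟩
  obtain ⟨u, a1, a2, a3⟩ := key U hU
  obtain ⟨v, b1, b2, b3⟩ := key V hV
  have h3 : closure {u, v} = ⊤ := by
    obtain ⟨i, h3, h4⟩ := (Nat.dvd_prime_pow h7.out).1 (hQ ▸ card_subgroup_dvd_card (closure {u, v}))
    have h5 : ∀ x ∈ ({u, v} : Set Q), zpowers x ≤ closure {u, v} := fun x hx => zpowers_le.2 (subset_closure hx)
    refine eq_top_of_card_eq _ (h4.trans (Eq.trans ?_ hQ.symm))
    by_contra h6
    have h8 : Nat.card (closure {u, v} : Subgroup Q) ≤ 7 := by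
      rw [h4]
      interval_cases i <;> omega
    refine h2 (Subtype.ext (Subtype.ext (a2.symm.trans (Eq.trans ?_ b2))))
    exact (eq_of_le_of_card_ge (h5 u (by simp)) (by rwa [Nat.card_zpowers, a1])).trans
      (eq_of_le_of_card_ge (h5 v (by simp)) (by rwa [Nat.card_zpowers, b1])).symm
  have h4 : ∀ a b : A, a.1 u = b.1 u → a.1 v = b.1 v → a = b := fun a b h5 h6 =>
    Subtype.ext (MulEquiv.toMonoidHom_injective (MonoidHom.eq_of_eqOn_dense h3 (by
      rintro _ (rfl | rfl)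
      exacts [h5, h6])))
  choose i hi using a3
  choose j hj using b3
  have h5 : Function.Surjective fun a : A => (i a, j a) :=
    (Function.Injective.bijective_of_nat_card_le (fun a b h => h4 a b
      (by rw [hi, hi, show i a = i b from (Prod.ext_iff.1 h).1]) (by rw [hj, hj, show j a = j b from (Prod.ext_iff.1 h).2])) (by rw [hA]; simp)).2
  obtain ⟨α, hα⟩ := h5 (0, 1)
  obtain ⟨β, hβ⟩ := h5 (1, 0)
  have c1 : α.1 u = u := by rw [hi, show i α = 0 from (Prod.ext_iff.1 hα).1]; exact pow_one u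
  have c2 : α.1 v = v ^ 2 := by rw [hj, show j α = 1 from (Prod.ext_iff.1 hα).2]; rfl
  have c3 : β.1 u = u ^ 2 := by rw [hi, show i β = 1 from (Prod.ext_iff.1 hβ).1]; rfl
  have c4 : β.1 v = v := by rw [hj, show j β = 0 from (Prod.ext_iff.1 hβ).2]; exact pow_one v
  have c5 : ∀ (a : A) (x : Q), orderOf x = 7 → a.1 x = x ∨ a.1 x = x ^ 2 → (a ^ 3).1 x = (1 : A).1 x := fun a x h6 h8 => by
    change a.1 (a.1 (a.1 x)) = x
    rcases h8 with h | h
    · rw [h, h, h]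
    · rw [h, map_pow, h, map_pow, map_pow, h, ← pow_mul, ← pow_mul, ← pow_mod_orderOf, h6, pow_one]
  refine ⟨u, v, α, β, fun h => ?_, fun h => ?_, h4 _ _ (c5 _ _ a1 (.inl c1)) (c5 _ _ b1 (.inr c2)),
    h4 _ _ (c5 _ _ a1 (.inr c3)) (c5 _ _ b1 (.inl c4)), c1, c2, c3, c4⟩
  · rw [h, orderOf_one] at a1
    omega
  · rw [h, orderOf_one] at b1
    omega

variable {L : Type} [Group L] [Finite L] [Fact (Nat.Prime 7)] (P : Sylow 7 L)

theorem nine (hP : Nat.card P = 7 ^ 2) (hC : Nat.card (centralizer (P : Set L)) ∣ 2 ^ 2 * 7 ^ 2) {c : ℕ} (hc : c ∣ 2)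
    (hL : Nat.card L = 3311126603366400 * c) (hf : ∀ x : L, orderOf x = 7 → IsConj x (x ^ 2)) :
    3 ^ 2 ∣ Nat.card (normalizer (P : Set L)) := by
  have h1 : ∀ r ∈ [5, 13, 17], r.Prime → ¬ r ∣ Nat.card (normalizer (P : Set L)) := fun r h1 hr h => by
    have := Fact.mk hr
    obtain ⟨w, hw⟩ := exists_prime_orderOf_dvd_card' r h
    have h7 := (orderOf_coe w).trans hw
    have h8 := H966.Der.card_mod_of_normalizer hr h7 (P := P) w.2
    obtain ⟨i, hi, h10⟩ := (Nat.dvd_prime_pow (p := 7) Fact.out).1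
      ((card_dvd_of_le (inf_le_left : (P : Subgroup L) ⊓ centralizer ({w.1} : Set L) ≤ P)).trans hP.dvd)
    rw [h10, hP] at h8
    obtain rfl := (by decide : ∀ r ∈ [5, 13, 17], ∀ i ≤ 2, 7 ^ 2 ≡ 7 ^ i [MOD r] → i = 2) r h1 i hi h8
    have h11 := eq_of_le_of_card_ge (inf_le_left : (P : Subgroup L) ⊓ centralizer ({w.1} : Set L) ≤ P) (by rw [h10, hP])
    exact (by decide : ∀ r ∈ [5, 13, 17], ¬ r ∣ 2 ^ 2 * 7 ^ 2) r h1 (dvd_trans (h7 ▸ orderOf_dvd_natCard _
      (mem_centralizer_iff.2 fun x hx => mem_centralizer_singleton_iff.1 (h11.ge hx).2)) hC)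
  have h2 : 3 ∣ Nat.card (normalizer (P : Set L)) := by
    have := IsPGroup.isMulCommutative_of_card_eq_prime_sq hP
    obtain ⟨x, hx⟩ := exists_prime_orderOf_dvd_card' (G := P) 7 (by rw [hP]; decide)
    have h3 := (orderOf_coe x).trans hx
    obtain ⟨g, hg⟩ := isConj_iff.1 (hf x h3)
    obtain ⟨n, h4, h5⟩ := P.conj_eq_normalizer_conj_of_mem x g⁻¹ x.2 (by rw [inv_inv, hg]; exact pow_mem x.2 2)
    rw [inv_inv, hg] at h5
    have h6 : ∀ k : ℕ, n⁻¹ ^ k * x * (n⁻¹ ^ k)⁻¹ = x ^ 2 ^ k := fun k => by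
      induction k with
      | zero => simp
      | succ k ih =>
        calc _ = n⁻¹ ^ k * (n⁻¹ * x * n) * (n⁻¹ ^ k)⁻¹ := by rw [pow_succ]; group
          _ = _ := by rw [← h5, ← conj_pow, ih, ← pow_mul, ← pow_succ]
    have h7 := h6 (Nat.card (normalizer (P : Set L)))
    rw [show n⁻¹ ^ Nat.card (normalizer (P : Set L)) = 1 from
      congrArg Subtype.val (pow_card_eq_one' (x := (⟨n⁻¹, inv_mem h4⟩ : normalizer (P : Set L)))), one_mul, inv_one,
      mul_one] at h7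
    have h8 := pow_eq_pow_iff_modEq.1 ((pow_one _).trans h7)
    rw [h3] at h8
    generalize Nat.card (normalizer (P : Set L)) = m at h8
    rw [← Nat.div_add_mod m 3, pow_add, pow_mul] at h8
    have h9 := h8.trans (Nat.ModEq.mul_right _ ((show 2 ^ 3 ≡ 1 [MOD 7] by decide).pow _))
    rw [one_pow, one_mul] at h9
    exact Nat.dvd_of_mod_eq_zero ((by decide : ∀ j < 3, 1 ≡ 2 ^ j [MOD 7] → j = 0) _ (Nat.mod_lt _ (by decide)) h9)
  have h3 := hP ▸ card_dvd_of_le (le_normalizer (H := (P : Subgroup L)))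
  have h7 := card_sylow_modEq_one 7 L
  have h9 := (normalizer (P : Set L)).card_mul_index
  rw [← P.card_eq_index_normalizer, hL] at h9
  have h5 := h1 5 (by decide) (by norm_num)
  have h13 := h1 13 (by decide) (by norm_num)
  have h17 := h1 17 (by decide) (by norm_num)
  by_contra h4
  change 7 ^ 2 ∣ Nat.card (normalizer (P : Set L)) at h3
  generalize Nat.card (Sylow 7 L) = n at *
  generalize Nat.card (normalizer (P : Set L)) = m at *
  obtain ⟨k, rfl⟩ := Nat.Coprime.mul_dvd_of_dvd_of_dvd (by decide) h3 h2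
  have c1 : ∀ r : ℕ, r.Prime → ¬ r ∣ 7 ^ 2 * 3 * k → k.Coprime r := fun r hr h =>
    (hr.coprime_iff_not_dvd.2 fun e => h (e.mul_left _)).symm
  have c2 : k.Coprime 3 := (Nat.prime_three.coprime_iff_not_dvd.2 fun e => h4 (by omega)).symm
  have h10 : k * n = 22524670771200 * c := by
    rw [mul_assoc] at h9
    omega
  have h11 : k ∣ 2 ^ 25 * (3 ^ 5 * 5 ^ 2 * 13 * 17) :=
    (Dvd.intro _ h10).trans ((Nat.mul_dvd_mul_left _ hc).trans (by decide))
  obtain ⟨i, hi, rfl⟩ := (Nat.dvd_prime_pow Nat.prime_two).1 (Nat.Coprime.dvd_of_dvd_mul_right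
    ((((c2.pow_right 5).mul_right ((c1 5 (by norm_num) h5).pow_right 2)).mul_right (c1 13 (by norm_num) h13)).mul_right
      (c1 17 (by norm_num) h17)) h11)
  have h12 := h10 ▸ (h7.mul_left (2 ^ i))
  exact (by decide +kernel : ∀ c ≤ 2, c ∣ 2 → ∀ i ≤ 25, ¬ 22524670771200 * c ≡ 2 ^ i * 1 [MOD 7]) c
    (Nat.le_of_dvd (by decide) hc) hc i hi h12

theorem frame (hP : Nat.card P = 7 ^ 2) (hn : ¬ IsCyclic P) (hC : Nat.card (centralizer (P : Set L)) ∣ 2 ^ 2 * 7 ^ 2)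
    (h : 3 ^ 2 ∣ Nat.card (normalizer (P : Set L))) : ∃ u ∈ P, ∃ v ∈ P, ∃ t ∈ normalizer (P : Set L),
      ∃ s ∈ normalizer (P : Set L), u ≠ 1 ∧ v ≠ 1 ∧ t ^ 3 = 1 ∧ s ^ 3 = 1 ∧ Commute t s ∧ t * u * t⁻¹ = u ∧
        t * v * t⁻¹ = v ^ 2 ∧ s * u * s⁻¹ = u ^ 2 ∧ s * v * s⁻¹ = v := by
  obtain ⟨R, hR⟩ := Sylow.exists_subgroup_card_pow_prime 3 h
  let φ : R →* MulAut P := (normalizerMonoidHom (P : Subgroup L)).comp R.subtype
  have h1 : Function.Injective φ := (injective_iff_map_eq_one φ).2 fun r hr => by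
    have h2 : r.1.1 ∈ centralizer (P : Set L) := mem_centralizer_iff.2 fun x hx =>
      (mul_inv_eq_iff_eq_mul.1 (congrArg Subtype.val (DFunLike.congr_fun hr (⟨x, hx⟩ : (P : Subgroup L))))).symm
    have h3 := (orderOf_dvd_natCard _ h2).trans hC
    rw [orderOf_coe, orderOf_coe] at h3
    exact orderOf_eq_one_iff.1 (Nat.eq_one_of_dvd_coprimes (by decide) h3 (hR ▸ _root_.orderOf_dvd_natCard r))
  obtain ⟨u, v, ⟨_, a, rfl⟩, ⟨_, b, rfl⟩, c1, c2, c3, c4, c5, c6, c7, c8⟩ := diag hP hn (A := φ.range)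
    ((Nat.card_congr (MonoidHom.ofInjective h1).toEquiv).symm.trans hR)
  have h2 : ∀ a : R, φ a ^ 3 = 1 → a.1.1 ^ 3 = 1 := fun a h =>
    congrArg (fun y : R => y.1.1) (h1 ((map_pow φ a 3).trans (h.trans (map_one φ).symm)))
  exact ⟨u, u.2, v, v.2, a, a.1.2, b, b.1.2, fun e => c1 (Subtype.ext e), fun e => c2 (Subtype.ext e),
    h2 a (congrArg Subtype.val c3), h2 b (congrArg Subtype.val c4),
    congrArg (fun y : R => y.1.1) ((IsPGroup.isMulCommutative_of_card_eq_prime_sq hR).is_comm.comm a b),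
    congrArg Subtype.val c5, congrArg Subtype.val c6, congrArg Subtype.val c7, congrArg Subtype.val c8⟩

end Cfsg.Agent.OM.XB.E7
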